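import Mathlib

/-!
# A bound from a unit-fraction equation

If a rational number with bounded denominator plus `1/N` is a sum of boundedly many unit
fractions `1/nᵢ` with all `nᵢ < N`, then `N` is bounded.
-/

set_option autoImplicit false

universe u

namespace Cfsg.Agent.ModularJordan

theorem exists_bound_unit_fractions :
    ∀ K L : ℕ, 0 < L → ∃ B : ℕ, ∀ (ι : Type u) (s : Finset ι) (n : ι → ℕ) (N : ℕ) (q : ℚ) (z : ℤ),
      s.card ≤ K → 0 < N → (∀ i ∈ s, 0 < n i ∧ n i < N) → q * (L : ℚ) = z →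
      q + (N : ℚ)⁻¹ = ∑ i ∈ s, (n i : ℚ)⁻¹ → N ≤ max L B := by
  classical
  intro K
  induction K with
  | zero =>
    intro L hL
    refine ⟨0, fun ι s n N q z hs hN _ hz heq => ?_⟩
    rw [Finset.card_eq_zero.1 (Nat.le_zero.1 hs), Finset.sum_empty] at heq
    have hq : q = -(N : ℚ)⁻¹ := by linarith
    have hNq : (0 : ℚ) < N := by exact_mod_cast hN
    by_contra hlt
    push Not at hlt
    have hLN : L < N := lt_of_le_of_lt (le_max_left _ _) hlt
    have h1 : (L : ℚ) = -(z : ℚ) * N := by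
      rw [← hz, hq]
      field_simp
    have h2 : (L : ℤ) = -z * N := by exact_mod_cast h1
    have h3 : (N : ℤ) ∣ (L : ℤ) := ⟨-z, by linarith⟩
    have h4 := Nat.le_of_dvd hL (by exact_mod_cast h3)
    omega
  | succ K ih =>
    intro L hL
    set M := (K + 1) * L with hM
    obtain ⟨B, hB⟩ := ih (L * M.factorial) (Nat.mul_pos hL (Nat.factorial_pos _))
    refine ⟨max (L * M.factorial) B, fun ι s n N q z hs hN hn hz heq => ?_⟩
    have hNq : (0 : ℚ) < (N : ℚ)⁻¹ := by positivity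
    rcases Nat.eq_zero_or_pos s.card with h0 | h0
    · exact le_trans (hB ι s n N q (z * M.factorial) (by omega) hN hn
        (by push_cast; rw [← hz]; ring) heq) (le_max_right _ _)
    have hLq : (0 : ℚ) < L := by exact_mod_cast hL
    rcases lt_trichotomy z 0 with hz' | hz' | hz'
    · -- `q ≤ -1/L`
      have hzq : (z : ℚ) ≤ -1 := by exact_mod_cast (by omega : z ≤ -1)
      have hs0 : (0 : ℚ) ≤ ∑ i ∈ s, (n i : ℚ)⁻¹ :=
        Finset.sum_nonneg fun i _ => inv_nonneg.2 (Nat.cast_nonneg _)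
      have hq : q ≤ -(L : ℚ)⁻¹ := by
        have h : q = (z : ℚ) * (L : ℚ)⁻¹ := by rw [← hz]; field_simp
        rw [h]
        nlinarith [inv_pos.2 hLq]
      have hle : (L : ℚ)⁻¹ ≤ (N : ℚ)⁻¹ := by linarith
      have : (N : ℚ) ≤ L := (inv_le_inv₀ hLq (by exact_mod_cast hN)).1 hle
      exact le_trans (by exact_mod_cast this) (le_max_left _ _)
    · exfalso
      subst hz'
      have hq : q = 0 := by simpa [hLq.ne'] using hz
      obtain ⟨i, hi⟩ := Finset.card_pos.1 h0
      obtain ⟨hi0, hiN⟩ := hn i hi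
      have h1 : (n i : ℚ)⁻¹ ≤ ∑ j ∈ s, (n j : ℚ)⁻¹ :=
        Finset.single_le_sum (f := fun j => (n j : ℚ)⁻¹)
          (fun j _ => inv_nonneg.2 (Nat.cast_nonneg _)) hi
      have h2 : (N : ℚ)⁻¹ < (n i : ℚ)⁻¹ :=
        inv_strictAnti₀ (by exact_mod_cast hi0) (by exact_mod_cast hiN)
      linarith
    · have hzq : (1 : ℚ) ≤ z := by exact_mod_cast (by omega : (1 : ℤ) ≤ z)
      have hq : (L : ℚ)⁻¹ ≤ q := by
        have h : q = (z : ℚ) * (L : ℚ)⁻¹ := by rw [← hz]; field_simp
        rw [h]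
        nlinarith [inv_pos.2 hLq]
      obtain ⟨i, hi, hbig⟩ : ∃ i ∈ s, n i ≤ M := by
        by_contra hno
        push Not at hno
        have h1 : ∀ j ∈ s, (n j : ℚ)⁻¹ ≤ (((K + 1 : ℕ) : ℚ) * L)⁻¹ := by
          intro j hj
          apply inv_anti₀ (by positivity)
          have h := hno j hj
          rw [hM] at h
          exact_mod_cast h.le
        have h2 := Finset.sum_le_card_nsmul s _ _ h1
        rw [nsmul_eq_mul] at h2
        have h3 : ((s.card : ℕ) : ℚ) ≤ ((K + 1 : ℕ) : ℚ) := by exact_mod_cast hs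
        have h4 : (((K + 1 : ℕ) : ℚ)) * (((K + 1 : ℕ) : ℚ) * L)⁻¹ = (L : ℚ)⁻¹ := by
          field_simp
        have h5 : ((s.card : ℕ) : ℚ) * (((K + 1 : ℕ) : ℚ) * L)⁻¹ ≤ (L : ℚ)⁻¹ := by
          rw [← h4]
          exact mul_le_mul_of_nonneg_right h3 (by positivity)
        linarith
      obtain ⟨hi0, _⟩ := hn i hi
      obtain ⟨c, hc⟩ := Nat.dvd_factorial hi0 hbig
      have hcq : ((M.factorial : ℕ) : ℚ) = (n i : ℚ) * c := by exact_mod_cast hc
      refine le_trans (hB ι (s.erase i) n N (q - (n i : ℚ)⁻¹) (z * M.factorial - L * c)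
        (by rw [Finset.card_erase_of_mem hi]; omega) hN
        (fun j hj => hn j (Finset.mem_of_mem_erase hj)) ?_ ?_) (le_max_right _ _)
      · have hni : (n i : ℚ) ≠ 0 := by exact_mod_cast hi0.ne'
        push_cast
        rw [← hz, hcq]
        field_simp
      · rw [← Finset.add_sum_erase s _ hi] at heq
        linarith

end Cfsg.Agent.ModularJordan
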