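import Cfsg.Agent.Lib.ModularJordan.Count

/-!
# Jordan's counting argument: the bound
-/

set_option autoImplicit false

universe u

namespace Cfsg.Agent.ModularJordan

variable {G : Type u} [Group G] [Finite G] {b n d : ℕ}

omit [Finite G] in
theorem card_eq_relIndex_mul {H K : Subgroup G} (h : H ≤ K) :
    Nat.card H * H.relIndex K = Nat.card K := by
  rw [← Subgroup.relIndex_bot_left, ← Subgroup.relIndex_bot_left,
    Subgroup.relIndex_mul_relIndex _ _ _ bot_le h]

theorem relIndex_pos (H K : Subgroup G) : 0 < H.relIndex K :=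
  Nat.pos_of_ne_zero Subgroup.index_ne_zero_of_finite

/-- The contribution of one orbit of classes of stable subgroups. -/
theorem large_fraction [Fintype G] (h : CountData G b n d) {L : ℕ} (hL : ∀ i, 0 < i → i ≤ b → i ∣ L)
    {g0 : G} (hg0 : Large b g0) (F : Finset G)
    (hF : ∀ y, y ∈ F ↔ Large b y ∧ ∃ x : G, classOf b y = conjSub x (classOf b g0)) :
    ∃ (m : ℕ) (z : ℤ) (a : ℚ), 0 < m ∧ m < (Subgroup.center G).index ∧ a * L = z ∧
      (F.card : ℚ) / Nat.card G = a - (m : ℚ)⁻¹ ∧ (2 * b : ℚ)⁻¹ ≤ (F.card : ℚ) / Nat.card G := by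
  classical
  obtain ⟨hg0c, D, hD, hDg⟩ := hg0
  have hM0 : classOf b g0 = classSup b D := classOf_eq h hg0c hD hDg
  set M := classSup b D with hM
  have hMc : M ≤ Subgroup.centralizer (M : Set G) := classSup_comm h hD
  have hMn : ¬ M ≤ Subgroup.center G := classSup_noncentral hD
  set N := Subgroup.normalizer (M : Set G) with hN
  have hMN : M ≤ N := Subgroup.le_normalizer
  have hZN : Subgroup.center G ≤ N := fun z hz => conjSub_eq_iff.1 (by
    apply conjSub_eq_self_of_centralizes
    intro x _
    rw [Subgroup.mem_centralizer_singleton_iff]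
    exact Subgroup.mem_center_iff.1 hz x)
  obtain ⟨A0, hA0N, hA0c, hA0i⟩ := h.normalizer M hMc hMn
  set A := A0 ⊔ Subgroup.center G with hA
  have hAN : A ≤ N := sup_le hA0N hZN
  have hAc : A ≤ Subgroup.centralizer (A : Set G) :=
    sup_comm hA0c (center_le_centralizer _)
      (Subgroup.le_centralizer_iff.1 (center_le_centralizer _))
  have hAi : A.relIndex N ≤ b :=
    le_trans (Nat.le_of_dvd (relIndex_pos _ _) (Subgroup.relIndex_dvd_of_le_left N le_sup_left))
      hA0i
  -- `A` centralizes every member of the class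
  have hAE : ∀ E : Subgroup G, Stable b E → classSup b E = M →
      A ≤ Subgroup.centralizer (E : Set G) := by
    intro E hE hEM
    have hEN : E ≤ N := le_trans (hEM ▸ le_classSup hE) hMN
    have hi : (A ⊓ E).relIndex E ≤ b := by
      rw [Subgroup.inf_relIndex_right]
      exact le_trans (Subgroup.relIndex_le_of_le_right hEN Subgroup.index_ne_zero_of_finite) hAi
    rw [← hE.eq_centralizer _ inf_le_right hi]
    exact le_trans hAc (Subgroup.centralizer_le inf_le_left)
  set T : Finset G := Finset.univ.filter fun g => ∃ E : Subgroup G, Stable b E ∧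
    E ≤ Subgroup.centralizer ({g} : Set G) ∧ classSup b E = M with hT
  set T0 : Finset G := Finset.univ.filter fun g => Large b g ∧ classOf b g = M with hT0
  set Zf : Finset G := Finset.univ.filter fun g => g ∈ Subgroup.center G with hZf
  have hZcard : Zf.card = Nat.card (Subgroup.center G) := by
    exact (Nat.subtype_card Zf (by intro x; simp [hZf])).symm
  have hTsplit : T = T0 ∪ Zf := by
    ext g
    simp only [hT, hT0, hZf, Finset.mem_union, Finset.mem_filter, Finset.mem_univ, true_and]
    constructor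
    · rintro ⟨E, hE, hEg, hEM⟩
      by_cases hgc : g ∈ Subgroup.center G
      · exact Or.inr hgc
      · exact Or.inl ⟨⟨hgc, E, hE, hEg⟩, by rw [classOf_eq h hgc hE hEg, hEM]⟩
    · rintro (⟨⟨hgc, E, hE, hEg⟩, hcl⟩ | hgc)
      · exact ⟨E, hE, hEg, by rw [← classOf_eq h hgc hE hEg, hcl]⟩
      · refine ⟨D, hD, ?_, rfl⟩
        intro x _
        rw [Subgroup.mem_centralizer_singleton_iff]
        exact Subgroup.mem_center_iff.1 hgc x
  have hTcard : T.card = T0.card + Nat.card (Subgroup.center G) := by
    rw [hTsplit, Finset.card_union_of_disjoint, hZcard]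
    rw [Finset.disjoint_left]
    intro g hg1 hg2
    simp only [hT0, hZf, Finset.mem_filter, Finset.mem_univ, true_and] at hg1 hg2
    exact hg1.1.1 hg2
  -- `T` is a union of cosets of `A` inside `N`
  obtain ⟨k, hk⟩ : ∃ k, T.card = k * Nat.card A := by
    refine ⟨Nat.card ((QuotientGroup.mk : G → G ⧸ A) '' (T : Set G)), ?_⟩
    have hpre : (QuotientGroup.mk : G → G ⧸ A) ⁻¹' (QuotientGroup.mk '' (T : Set G)) =
        (T : Set G) := by
      refine Set.Subset.antisymm ?_ (Set.subset_preimage_image _ _)
      rintro y ⟨g, hg, hgy⟩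
      have hgy' : g⁻¹ * y ∈ A := QuotientGroup.eq.1 hgy
      simp only [hT, Finset.coe_filter, Finset.mem_univ, true_and, Set.mem_setOf_eq] at hg ⊢
      obtain ⟨E, hE, hEg, hEM⟩ := hg
      refine ⟨E, hE, ?_, hEM⟩
      rw [le_centralizer_singleton_iff] at hEg ⊢
      have hh := mul_mem hEg (hAE E hE hEM hgy')
      rwa [mul_inv_cancel_left] at hh
    have e := Nat.card_congr
      (QuotientGroup.preimageMkEquivSubgroupProdSet A (QuotientGroup.mk '' (T : Set G)))
    rw [hpre, Nat.card_prod] at e
    rw [mul_comm, ← e]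
    exact (Nat.subtype_card T (fun x => Iff.rfl)).symm
  have hAT : Nat.card A ≤ T.card := by
    have hcA : Nat.card A = (Finset.univ.filter fun g => g ∈ A).card :=
      Nat.subtype_card _ (by simp)
    rw [hcA]
    refine Finset.card_le_card fun a ha => ?_
    simp only [hT, Finset.mem_filter, Finset.mem_univ, true_and] at ha ⊢
    exact ⟨D, hD, (le_centralizer_singleton_iff D a).2 (hAE D hD rfl ha), rfl⟩
  have hA2 : 2 * Nat.card (Subgroup.center G) ≤ Nat.card A := by
    rw [← card_eq_relIndex_mul (le_sup_right : Subgroup.center G ≤ A), mul_comm 2]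
    refine Nat.mul_le_mul_left _ ?_
    have := relIndex_pos (Subgroup.center G) A
    rcases Nat.lt_or_ge ((Subgroup.center G).relIndex A) 2 with h2 | h2
    · exfalso
      have hle : A ≤ Subgroup.center G := Subgroup.relIndex_eq_one.1 (by omega)
      have hDN : D ≤ N := le_trans (le_classSup hD) hMN
      have hi : (A ⊓ D).relIndex D ≤ b := by
        rw [Subgroup.inf_relIndex_right]
        exact le_trans (Subgroup.relIndex_le_of_le_right hDN Subgroup.index_ne_zero_of_finite) hAi
      have hcD := hD.eq_centralizer _ inf_le_right hi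
      apply hD.noncentral
      intro x hx
      rw [Subgroup.mem_center_iff]
      intro y
      have hy : y ∈ Subgroup.centralizer (D : Set G) := by
        rw [← hcD, Subgroup.mem_centralizer_iff]
        intro w hw
        exact (Subgroup.mem_center_iff.1 (hle hw.1) y).symm
      exact (Subgroup.mem_centralizer_iff.1 hy x hx).symm
    · exact h2
  have hNtop : N ≠ ⊤ := by
    intro htop
    exact hMn (h.normal M (Subgroup.normalizer_eq_top_iff.1 htop) hMc)
  -- double counting
  have hdc : Nat.card G * T0.card = F.card * Nat.card N := by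
    have := card_mul_eq_of_fibres (fun p : G × G => p.1 * p.2 * p.1⁻¹) F (Finset.univ ×ˢ T0)
      (Nat.card N) ?_ ?_
    · rwa [Finset.card_product, Finset.card_univ, ← Nat.card_eq_fintype_card] at this
    · rintro ⟨x, g⟩ hp
      simp only [hT0, Finset.mem_product, Finset.mem_filter, Finset.mem_univ, true_and] at hp
      obtain ⟨hl, hc⟩ := classOf_conj h hp.1 x
      exact (hF _).2 ⟨hl, x, by rw [hc, hp.2, hM0]⟩
    · intro y hy
      obtain ⟨hyl, x0, hx0⟩ := (hF y).1 hy
      rw [hM0] at hx0
      refine Nat.card_congr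
        { toFun := fun p => ⟨x0⁻¹ * p.1.1, ?_⟩
          invFun := fun ν => ⟨(x0 * ν.1, (x0 * ν.1)⁻¹ * y * (x0 * ν.1)), ?_, ?_⟩
          left_inv := ?_
          right_inv := ?_ }
      · obtain ⟨⟨x, g⟩, hp, hpy⟩ := p
        simp only [hT0, Finset.mem_product, Finset.mem_filter, Finset.mem_univ, true_and] at hp
        obtain ⟨hl, hc⟩ := classOf_conj h hp.1 x
        rw [hpy, hp.2, hx0] at hc
        refine conjSub_eq_iff.1 ?_
        show conjSub (x0⁻¹ * x) M = M
        rw [← conjSub_conjSub, ← hc, conjSub_conjSub, inv_mul_cancel, conjSub_one]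
      · simp only [hT0, Finset.mem_product, Finset.mem_filter, Finset.mem_univ, true_and]
        have hc := classOf_conj h hyl (x0 * ν.1)⁻¹
        rw [inv_inv] at hc
        refine ⟨hc.1, ?_⟩
        rw [hc.2, hx0, conjSub_conjSub, mul_inv_rev, mul_assoc, inv_mul_cancel, mul_one,
          conjSub_eq_iff.2 (inv_mem ν.2)]
      · group
      · rintro ⟨⟨x, g⟩, hp, hpy⟩
        have e1 : x0 * (x0⁻¹ * x) = x := mul_inv_cancel_left _ _
        apply Subtype.ext
        simp only [e1, Prod.mk.injEq, true_and]
        rw [← hpy]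
        group
      · intro ν
        apply Subtype.ext
        exact inv_mul_cancel_left _ _
  have hib : 0 < A.relIndex N := relIndex_pos _ _
  have hm0 : 0 < (Subgroup.center G).relIndex N := relIndex_pos _ _
  have hNA : (Nat.card A : ℚ) * A.relIndex N = Nat.card N := by
    exact_mod_cast card_eq_relIndex_mul hAN
  have hNZ : (Nat.card (Subgroup.center G) : ℚ) * (Subgroup.center G).relIndex N = Nat.card N := by
    exact_mod_cast card_eq_relIndex_mul hZN
  have hN0 : (0 : ℚ) < Nat.card N := by exact_mod_cast Nat.card_pos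
  have hG0 : (0 : ℚ) < Nat.card G := by exact_mod_cast Nat.card_pos
  have hA0 : (0 : ℚ) < Nat.card A := by exact_mod_cast Nat.card_pos
  have hi0 : (0 : ℚ) < A.relIndex N := by exact_mod_cast hib
  have hfr : (F.card : ℚ) / Nat.card G = (T0.card : ℚ) / Nat.card N := by
    rw [div_eq_div_iff hG0.ne' hN0.ne']
    have : ((Nat.card G * T0.card : ℕ) : ℚ) = ((F.card * Nat.card N : ℕ) : ℚ) := by rw [hdc]
    push_cast at this
    linarith
  have hT0q : (T0.card : ℚ) = k * Nat.card A - Nat.card (Subgroup.center G) := by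
    have : ((T.card : ℕ) : ℚ) = T0.card + Nat.card (Subgroup.center G) := by exact_mod_cast hTcard
    rw [hk] at this
    push_cast at this
    linarith
  obtain ⟨c, hc⟩ := hL _ hib hAi
  refine ⟨(Subgroup.center G).relIndex N, (k * c : ℕ), (k : ℚ) / A.relIndex N, hm0, ?_, ?_, ?_, ?_⟩
  · rw [← Subgroup.relIndex_mul_index hZN]
    have : 1 < N.index := Subgroup.one_lt_index_of_ne_top hNtop
    nlinarith [hm0]
  · rw [hc]
    push_cast
    field_simp
  · rw [hfr, hT0q, sub_div, ← hNA]
    congr 1
    · field_simp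
    · rw [hNA, ← hNZ]
      have hZ0 : (0 : ℚ) < Nat.card (Subgroup.center G) := by exact_mod_cast Nat.card_pos
      field_simp
  · rw [hfr, ← hNA, le_div_iff₀ (by positivity)]
    have h1 : (Nat.card A : ℚ) ≤ (T0.card : ℚ) + Nat.card (Subgroup.center G) := by
      exact_mod_cast hTcard ▸ hAT
    have h2 : 2 * (Nat.card (Subgroup.center G) : ℚ) ≤ Nat.card A := by exact_mod_cast hA2
    have h3 : (A.relIndex N : ℚ) ≤ b := by exact_mod_cast hAi
    have hb0 : (0 : ℚ) < b := lt_of_lt_of_le hi0 h3
    have h5 : (2 * b : ℚ)⁻¹ * ((Nat.card A : ℚ) * A.relIndex N) ≤ (Nat.card A : ℚ) / 2 := by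
      rw [inv_mul_eq_div, div_le_div_iff₀ (by positivity) two_pos]
      nlinarith
    linarith

/-- The contribution of a small class. -/
theorem small_fraction [Fintype G] (h : CountData G b n d) {L : ℕ}
    (hL : ∀ i, 0 < i → i ≤ n * (b ^ d * b) → i ∣ L) {g : G} (hg : g ∉ Subgroup.center G)
    (hs : ¬ Large b g) (F : Finset G)
    (hF : ∀ y, y ∈ F ↔ ∃ x : G, (x * g * x⁻¹)⁻¹ * y ∈ Subgroup.center G) :
    ∃ z : ℤ, (F.card : ℚ) / Nat.card G * L = z := by
  classical
  set Z := Subgroup.center G with hZ
  set C := Subgroup.centralizer ({g} : Set G) with hC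
  let Cs : Subgroup G :=
    (Subgroup.centralizer ({(QuotientGroup.mk g : G ⧸ Z)} : Set (G ⧸ Z))).comap (QuotientGroup.mk' Z)
  have hCs : ∀ x, x ∈ Cs ↔ g⁻¹ * (x * g * x⁻¹) ∈ Z := by
    intro x
    rw [← QuotientGroup.eq]
    show (QuotientGroup.mk' Z x) ∈ Subgroup.centralizer ({(QuotientGroup.mk g : G ⧸ Z)} : Set _) ↔ _
    rw [Subgroup.mem_centralizer_singleton_iff, QuotientGroup.mk'_apply, QuotientGroup.mk_mul,
      QuotientGroup.mk_mul, QuotientGroup.mk_inv]
    constructor
    · intro e; rw [e, mul_inv_cancel_right]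
    · intro e; conv_rhs => rw [e]
      rw [inv_mul_cancel_right]
  have hZC : Z ≤ C := center_le_centralizer _
  have hCCs : C ≤ Cs := by
    intro x hx
    rw [hCs]
    have : x * g = g * x := Subgroup.mem_centralizer_singleton_iff.1 hx
    rw [this, mul_inv_cancel_right, inv_mul_cancel]
    exact one_mem _
  -- the twisting values
  have htw : C.relIndex Cs ≤ n := by
    refine le_trans ?_ (h.twist g hg)
    rw [Subgroup.relIndex, Subgroup.index]
    let f : Cs ⧸ C.subgroupOf Cs → {z : G // z ∈ Z ∧ IsConj g (g * z)} := fun q =>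
      ⟨g⁻¹ * ((q.out : G) * g * (q.out : G)⁻¹), (hCs _).1 q.out.2, by
        rw [mul_inv_cancel_left]
        exact isConj_iff.2 ⟨_, rfl⟩⟩
    refine Nat.card_le_card_of_injective f ?_
    intro q r hqr
    have e := congrArg Subtype.val hqr
    simp only [f, mul_right_inj] at e
    rw [← QuotientGroup.out_eq' q, ← QuotientGroup.out_eq' r, QuotientGroup.eq,
      Subgroup.mem_subgroupOf]
    show (q.out : G)⁻¹ * (r.out : G) ∈ C
    refine Subgroup.mem_centralizer_singleton_iff.2 ?_
    have e' : (r.out : G) * g = (q.out : G) * g * (q.out : G)⁻¹ * r.out := by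
      rw [e, inv_mul_cancel_right]
    rw [mul_assoc, e']
    group
  have hCbound : Z.relIndex C ≤ b ^ d * b := by
    obtain ⟨A0, hA0C, hA0c, hA0i⟩ := h.centralizer_elem g hg
    set A := A0 ⊔ Z with hA
    have hAC : A ≤ C := sup_le hA0C hZC
    have hAc : A ≤ Subgroup.centralizer (A : Set G) :=
      sup_comm hA0c (center_le_centralizer _)
        (Subgroup.le_centralizer_iff.1 (center_le_centralizer _))
    rw [← Subgroup.relIndex_mul_relIndex Z A C le_sup_right hAC]
    refine Nat.mul_le_mul ?_ (le_trans (Nat.le_of_dvd (relIndex_pos _ _)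
      (Subgroup.relIndex_dvd_of_le_left C le_sup_left)) hA0i)
    by_contra hbig
    push Not at hbig
    obtain ⟨E, hE, hEA⟩ := exists_stable_le h (h.one_le hg) A hAc hbig
    exact hs ⟨hg, E, hE, le_trans hEA hAC⟩
  have hj : Z.relIndex Cs ≤ n * (b ^ d * b) := by
    rw [← Subgroup.relIndex_mul_relIndex Z C Cs hZC hCCs, mul_comm n]
    exact Nat.mul_le_mul hCbound htw
  set Zf : Finset G := Finset.univ.filter fun z => z ∈ Z with hZf
  have hdc : Nat.card G * Nat.card Z = F.card * Nat.card Cs := by
    have := card_mul_eq_of_fibres (fun p : G × G => p.1 * g * p.1⁻¹ * p.2) F (Finset.univ ×ˢ Zf)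
      (Nat.card Cs) ?_ ?_
    · rw [Finset.card_product, Finset.card_univ, ← Nat.card_eq_fintype_card] at this
      have hcZ : Nat.card Z = Zf.card := Nat.subtype_card Zf (by intro x; simp [hZf])
      rwa [hcZ]
    · rintro ⟨x, z⟩ hp
      simp only [hZf, Finset.mem_product, Finset.mem_filter, Finset.mem_univ, true_and] at hp
      refine (hF _).2 ⟨x, ?_⟩
      rwa [inv_mul_cancel_left]
    · intro y hy
      obtain ⟨x0, hx0⟩ := (hF y).1 hy
      refine Nat.card_congr
        { toFun := fun p => ⟨x0⁻¹ * p.1.1, ?_⟩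
          invFun := fun ν => ⟨(x0 * ν.1, (x0 * ν.1 * g * (x0 * ν.1)⁻¹)⁻¹ * y), ?_, ?_⟩
          left_inv := ?_
          right_inv := ?_ }
      · obtain ⟨⟨x, z⟩, hp, hpy⟩ := p
        simp only [hZf, Finset.mem_product, Finset.mem_filter, Finset.mem_univ, true_and] at hp
        subst hpy
        rw [hCs]
        have hw := mul_mem hx0 (inv_mem hp)
        have := Subgroup.Normal.conj_mem (inferInstance : (Subgroup.center G).Normal) _ hw x0⁻¹
        convert this using 1
        group
      · simp only [hZf, Finset.mem_product, Finset.mem_filter, Finset.mem_univ, true_and]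
        have h1 := Subgroup.Normal.conj_mem (inferInstance : Z.Normal) _
          (inv_mem ((hCs _).1 ν.2)) x0
        convert mul_mem h1 hx0 using 1
        group
      · exact mul_inv_cancel_left _ _
      · rintro ⟨⟨x, z⟩, hp, hpy⟩
        have e1 : x0 * (x0⁻¹ * x) = x := mul_inv_cancel_left _ _
        apply Subtype.ext
        simp only [e1, Prod.mk.injEq, true_and]
        rw [← hpy]
        exact inv_mul_cancel_left _ _
      · intro ν
        apply Subtype.ext
        exact inv_mul_cancel_left _ _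
  obtain ⟨c, hc⟩ := hL _ (relIndex_pos Z Cs) hj
  refine ⟨c, ?_⟩
  have hq : (Nat.card Z : ℚ) * Z.relIndex Cs = Nat.card Cs := by
    exact_mod_cast card_eq_relIndex_mul (le_trans hZC hCCs)
  have hd : (Nat.card G : ℚ) * Nat.card Z = F.card * Nat.card Cs := by exact_mod_cast hdc
  have hG0 : (0 : ℚ) < Nat.card G := by exact_mod_cast Nat.card_pos
  have hZ0 : (0 : ℚ) < Nat.card Z := by exact_mod_cast Nat.card_pos
  rw [hc, ← hq] at *
  push_cast
  field_simp
  nlinarith

end Cfsg.Agent.ModularJordan
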