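import Cfsg.Agent.Lib.ModularJordan.Bound

/-!
# The central index of a group satisfying `CountData` is bounded
-/

set_option autoImplicit false

universe u

namespace Cfsg.Agent.ModularJordan

variable {G : Type u} [Group G] [Finite G] {b n d : ℕ}

omit [Finite G] in
theorem large_congr {g h x : G} (hh : (x * g * x⁻¹)⁻¹ * h ∈ Subgroup.center G)
    (hd : CountData G b n d) [Finite G] (hl : Large b g) : Large b h := by
  obtain ⟨⟨hc, D, hD, hDg⟩, -⟩ := classOf_conj hd hl x
  have he : h = x * g * x⁻¹ * ((x * g * x⁻¹)⁻¹ * h) := (mul_inv_cancel_left _ _).symm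
  refine ⟨fun hz => hc ?_, D, hD, ?_⟩
  · have := mul_mem hz (inv_mem hh)
    rwa [mul_inv_rev, inv_inv, mul_inv_cancel_left] at this
  · intro y hy
    rw [he, Subgroup.mem_centralizer_singleton_iff, ← mul_assoc,
      Subgroup.mem_centralizer_singleton_iff.1 (hDg hy), mul_assoc,
      Subgroup.mem_center_iff.1 hh y, ← mul_assoc]

theorem exists_center_index_bound (b n d : ℕ) :
    ∃ B : ℕ, ∀ (G : Type u) [Group G] [Finite G], CountData G b n d →
      (Subgroup.center G).index ≤ B := by
  classical
  set T := b + n * (b ^ d * b) with hT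
  obtain ⟨B, hB⟩ := exists_bound_unit_fractions.{u} (2 * b) T.factorial (Nat.factorial_pos _)
  refine ⟨max T.factorial B, fun G _ _ h => ?_⟩
  have : Fintype G := Fintype.ofFinite G
  set L := T.factorial with hL
  set Z := Subgroup.center G with hZ
  by_cases hall : ∀ g : G, g ∈ Z
  · have : Z = ⊤ := eq_top_iff.2 fun g _ => hall g
    rw [this, Subgroup.index_top]
    exact le_trans (Nat.factorial_pos _) (le_max_left _ _)
  let key : G → Set (Subgroup G) ⊕ ConjClasses (G ⧸ Z) := fun g =>
    if Large b g then Sum.inl (Set.range fun x => conjSub x (classOf b g))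
    else Sum.inr (ConjClasses.mk (QuotientGroup.mk g))
  set s : Finset G := Finset.univ.filter fun g => g ∉ Z with hs
  set fib : Set (Subgroup G) ⊕ ConjClasses (G ⧸ Z) → Finset G :=
    fun o => s.filter fun g => key g = o with hfib
  set im := s.image key with him
  have hlarge : ∀ o ∈ im.toLeft, ∃ (m : ℕ) (z : ℤ) (a : ℚ), 0 < m ∧ m < Z.index ∧ a * L = z ∧
      ((fib (Sum.inl o)).card : ℚ) / Nat.card G = a - (m : ℚ)⁻¹ ∧
      (2 * b : ℚ)⁻¹ ≤ ((fib (Sum.inl o)).card : ℚ) / Nat.card G := by
    intro o ho
    rw [Finset.mem_toLeft, him, Finset.mem_image] at ho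
    obtain ⟨g0, hg0, hk⟩ := ho
    by_cases hl : Large b g0
    · simp only [key, if_pos hl, Sum.inl.injEq] at hk
      refine large_fraction h (fun i hi hib => Nat.dvd_factorial hi (by omega)) hl _ fun y => ?_
      simp only [hfib, hs, key, Finset.mem_filter, Finset.mem_univ, true_and]
      constructor
      · rintro ⟨-, hy⟩
        by_cases hyl : Large b y
        · rw [if_pos hyl, Sum.inl.injEq, ← hk] at hy
          have : classOf b y ∈ Set.range fun x => conjSub x (classOf b g0) := by
            rw [← hy]; exact ⟨1, conjSub_one _⟩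
          obtain ⟨x, hx⟩ := this
          exact ⟨hyl, x, hx.symm⟩
        · rw [if_neg hyl] at hy
          exact absurd hy Sum.inr_ne_inl
      · rintro ⟨hyl, x, hx⟩
        refine ⟨hyl.1, ?_⟩
        rw [if_pos hyl, Sum.inl.injEq, ← hk]
        ext M
        simp only [Set.mem_range, hx, conjSub_conjSub]
        constructor
        · rintro ⟨y', rfl⟩; exact ⟨y' * x, rfl⟩
        · rintro ⟨y', rfl⟩; exact ⟨y' * x⁻¹, by rw [inv_mul_cancel_right]⟩
    · simp [key, if_neg hl] at hk
  have hsmall : ∀ c ∈ im.toRight, ∃ z : ℤ,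
      ((fib (Sum.inr c)).card : ℚ) / Nat.card G * L = z := by
    intro c hc
    rw [Finset.mem_toRight, him, Finset.mem_image] at hc
    obtain ⟨g0, hg0, hk⟩ := hc
    simp only [hs, Finset.mem_filter, Finset.mem_univ, true_and] at hg0
    by_cases hl : Large b g0
    · simp [key, if_pos hl] at hk
    · simp only [key, if_neg hl, Sum.inr.injEq] at hk
      refine small_fraction h (fun i hi hib => Nat.dvd_factorial hi (by omega)) hg0 hl _ fun y => ?_
      simp only [hfib, hs, key, Finset.mem_filter, Finset.mem_univ, true_and]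
      constructor
      · rintro ⟨-, hy⟩
        by_cases hyl : Large b y
        · rw [if_pos hyl] at hy
          exact absurd hy Sum.inl_ne_inr
        · rw [if_neg hyl, Sum.inr.injEq, ← hk, ConjClasses.mk_eq_mk_iff_isConj, isConj_comm,
            isConj_iff] at hy
          obtain ⟨q, hq⟩ := hy
          obtain ⟨x, rfl⟩ := QuotientGroup.mk_surjective q
          exact ⟨x, QuotientGroup.eq.1 hq⟩
      · rintro ⟨x, hx⟩
        have hyl : ¬ Large b y := by
          intro hy
          refine hl (large_congr (g := y) (x := x⁻¹) ?_ h hy)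
          have := inv_mem ((Subgroup.Normal.conj_mem (inferInstance : Z.Normal) _ hx x⁻¹))
          convert this using 1
          group
        refine ⟨fun hy => hg0 ((center_conj (x := x)).1 ?_), ?_⟩
        · have := mul_mem hy (inv_mem hx)
          rwa [mul_inv_rev, inv_inv, mul_inv_cancel_left] at this
        · rw [if_neg hyl, Sum.inr.injEq, ← hk, ConjClasses.mk_eq_mk_iff_isConj, isConj_comm,
            isConj_iff]
          exact ⟨QuotientGroup.mk x, by
            rw [← QuotientGroup.mk_inv, ← QuotientGroup.mk_mul, ← QuotientGroup.mk_mul,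
              QuotientGroup.eq]; exact hx⟩
  choose! m zl al hm hmlt hal heq hlow using hlarge
  choose! zs hzs using hsmall
  have hG0 : (0 : ℚ) < Nat.card G := by exact_mod_cast Nat.card_pos
  have hscard : (s.card : ℚ) = Nat.card G - Nat.card Z := by
    have h1 := Finset.card_filter_add_card_filter_not (s := (Finset.univ : Finset G)) (fun g => g ∈ Z)
    have h2 : (Finset.univ.filter fun g => g ∈ Z).card = Nat.card Z :=
      (Nat.subtype_card _ (by simp)).symm
    rw [h2, Finset.card_univ, ← Nat.card_eq_fintype_card] at h1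
    rw [eq_sub_iff_add_eq, add_comm]
    exact_mod_cast h1
  have hsum : (s.card : ℚ) / Nat.card G =
      ∑ o ∈ im.toLeft, ((fib (Sum.inl o)).card : ℚ) / Nat.card G +
      ∑ c ∈ im.toRight, ((fib (Sum.inr c)).card : ℚ) / Nat.card G := by
    rw [← Finset.sum_disjSum im.toLeft im.toRight (fun o => ((fib o).card : ℚ) / Nat.card G),
      Finset.toLeft_disjSum_toRight, ← Finset.sum_div, ← Nat.cast_sum]
    have e : s.card = ∑ o ∈ im, (fib o).card :=
      Finset.card_eq_sum_card_fiberwise fun g hg => Finset.mem_image_of_mem key hg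
    rw [← e]
  have hZindex : (Nat.card Z : ℚ) * Z.index = Nat.card G := by
    exact_mod_cast Z.card_mul_index
  have hN0 : 0 < Z.index := Nat.pos_of_ne_zero Subgroup.index_ne_zero_of_finite
  have hfrac : (s.card : ℚ) / Nat.card G = 1 - (Z.index : ℚ)⁻¹ := by
    have hZ0 : (0 : ℚ) < Nat.card Z := by exact_mod_cast Nat.card_pos
    have hN0' : (0 : ℚ) < Z.index := by exact_mod_cast hN0
    rw [hscard, sub_div, div_self hG0.ne', ← hZindex]
    congr 1
    field_simp
  -- few large orbits
  have hK : im.toLeft.card ≤ 2 * b := by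
    have h1 : ∑ o ∈ im.toLeft, (2 * b : ℚ)⁻¹ ≤ (s.card : ℚ) / Nat.card G := by
      rw [hsum]
      refine le_add_of_le_of_nonneg (Finset.sum_le_sum hlow) (Finset.sum_nonneg fun c _ => ?_)
      positivity
    rw [Finset.sum_const, nsmul_eq_mul, hfrac] at h1
    rcases Nat.eq_zero_or_pos im.toLeft.card with h0 | h0
    · omega
    obtain ⟨g, hg⟩ := not_forall.1 hall
    have hb : (0 : ℚ) < 2 * b := by
      have := h.one_le hg
      positivity
    have h2 : (0 : ℚ) ≤ (Z.index : ℚ)⁻¹ := by positivity
    have h3 : (im.toLeft.card : ℚ) * (2 * b : ℚ)⁻¹ ≤ 1 := by linarith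
    rw [← div_eq_mul_inv, div_le_one hb] at h3
    exact_mod_cast h3
  rw [hsum] at hfrac
  rw [Finset.sum_congr rfl heq, Finset.sum_sub_distrib] at hfrac
  refine hB _ im.toLeft m Z.index
    (∑ o ∈ im.toLeft, al o + ∑ c ∈ im.toRight, ((fib (Sum.inr c)).card : ℚ) / Nat.card G - 1)
    (∑ o ∈ im.toLeft, zl o + ∑ c ∈ im.toRight, zs c - (L : ℤ)) hK hN0
    (fun o ho => ⟨hm o ho, hmlt o ho⟩) ?_ (by linarith)
  push_cast
  rw [sub_mul, add_mul, one_mul, Finset.sum_mul, Finset.sum_mul, Finset.sum_congr rfl hal,
    Finset.sum_congr rfl hzs]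

end Cfsg.Agent.ModularJordan
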