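import Mathlib

/-!
# Stable abelian subgroups

For Jordan's counting argument: an abelian non-central subgroup is *stable* if none of its
subgroups of small index has a larger centralizer. Stable subgroups centralized by a common
non-central element commute, so "commuting" is an equivalence relation between them.
-/

set_option autoImplicit false

namespace Cfsg.Agent.ModularJordan

variable {G : Type*} [Group G]

/-- The hypotheses of the counting argument. -/
structure CountData (G : Type*) [Group G] (b n d : ℕ) : Prop where
  centralizer_elem : ∀ g : G, g ∉ Subgroup.center G →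
    ∃ A : Subgroup G, A ≤ Subgroup.centralizer ({g} : Set G) ∧
      A ≤ Subgroup.centralizer (A : Set G) ∧
      A.relIndex (Subgroup.centralizer ({g} : Set G)) ≤ b
  normalizer : ∀ M : Subgroup G, M ≤ Subgroup.centralizer (M : Set G) →
    ¬ M ≤ Subgroup.center G →
    ∃ A : Subgroup G, A ≤ Subgroup.normalizer (M : Set G) ∧
      A ≤ Subgroup.centralizer (A : Set G) ∧
      A.relIndex (Subgroup.normalizer (M : Set G)) ≤ b
  normal : ∀ M : Subgroup G, M.Normal → M ≤ Subgroup.centralizer (M : Set G) →
    M ≤ Subgroup.center G
  chain : ∃ φ : Subgroup G → ℕ, (∀ X, φ X ≤ d) ∧ ∀ X' X : Subgroup G, X' ≤ X →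
    Subgroup.centralizer (X' : Set G) ≠ Subgroup.centralizer (X : Set G) → φ X < φ X'
  twist : ∀ g : G, g ∉ Subgroup.center G →
    Nat.card {z : G // z ∈ Subgroup.center G ∧ IsConj g (g * z)} ≤ n

/-- An abelian non-central subgroup whose subgroups of index at most `b` have the same
centralizer. -/
structure Stable (b : ℕ) (D : Subgroup G) : Prop where
  comm : D ≤ Subgroup.centralizer (D : Set G)
  noncentral : ¬ D ≤ Subgroup.center G
  eq_centralizer : ∀ D' ≤ D, D'.relIndex D ≤ b →
    Subgroup.centralizer (D' : Set G) = Subgroup.centralizer (D : Set G)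

/-- The subgroup generated by the stable subgroups commuting with `D`. -/
def classSup (b : ℕ) (D : Subgroup G) : Subgroup G :=
  sSup {E : Subgroup G | Stable b E ∧ E ≤ Subgroup.centralizer (D : Set G)}

theorem le_centralizer_singleton_iff (D : Subgroup G) (g : G) :
    D ≤ Subgroup.centralizer ({g} : Set G) ↔ g ∈ Subgroup.centralizer (D : Set G) := by
  constructor
  · intro h
    rw [Subgroup.mem_centralizer_iff]
    intro x hx
    exact Subgroup.mem_centralizer_singleton_iff.1 (h hx)
  · intro h x hx
    rw [Subgroup.mem_centralizer_singleton_iff]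
    exact Subgroup.mem_centralizer_iff.1 h x hx

theorem sup_comm {A B : Subgroup G} (hA : A ≤ Subgroup.centralizer (A : Set G))
    (hB : B ≤ Subgroup.centralizer (B : Set G)) (hAB : A ≤ Subgroup.centralizer (B : Set G)) :
    A ⊔ B ≤ Subgroup.centralizer ((A ⊔ B : Subgroup G) : Set G) := by
  refine sup_le ?_ ?_
  · rw [Subgroup.le_centralizer_iff]
    exact sup_le hA (Subgroup.le_centralizer_iff.1 hAB)
  · rw [Subgroup.le_centralizer_iff]
    exact sup_le hAB hB

theorem center_le_centralizer (X : Set G) : Subgroup.center G ≤ Subgroup.centralizer X := by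
  intro z hz
  rw [Subgroup.mem_centralizer_iff]
  intro x _
  exact Subgroup.mem_center_iff.1 hz x

section

variable [Finite G] {b n d : ℕ} (h : CountData G b n d)

include h

theorem CountData.one_le {g : G} (hg : g ∉ Subgroup.center G) : 1 ≤ b := by
  obtain ⟨A, _, _, hA⟩ := h.centralizer_elem g hg
  have : A.relIndex (Subgroup.centralizer ({g} : Set G)) ≠ 0 := Subgroup.index_ne_zero_of_finite
  omega

/-- Stable subgroups centralized by a common non-central element commute. -/
theorem Stable.commute_of_le {g : G} (hg : g ∉ Subgroup.center G) {D E : Subgroup G}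
    (hD : Stable b D) (hE : Stable b E) (hDg : D ≤ Subgroup.centralizer ({g} : Set G))
    (hEg : E ≤ Subgroup.centralizer ({g} : Set G)) :
    D ≤ Subgroup.centralizer (E : Set G) := by
  obtain ⟨A, _, hAc, hAi⟩ := h.centralizer_elem g hg
  have key : ∀ X : Subgroup G, X ≤ Subgroup.centralizer ({g} : Set G) → (A ⊓ X).relIndex X ≤ b := by
    intro X hX
    rw [Subgroup.inf_relIndex_right]
    exact le_trans (Subgroup.relIndex_le_of_le_right hX Subgroup.index_ne_zero_of_finite) hAi
  have h1 : A ≤ Subgroup.centralizer (D : Set G) := by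
    rw [← hD.eq_centralizer (A ⊓ D) inf_le_right (key D hDg)]
    exact le_trans hAc (Subgroup.centralizer_le inf_le_left)
  rw [← hE.eq_centralizer (A ⊓ E) inf_le_right (key E hEg)]
  refine Subgroup.le_centralizer_iff.1 (le_trans inf_le_left h1)

theorem Stable.commute_trans {D E F : Subgroup G} (hD : Stable b D) (hE : Stable b E)
    (hF : Stable b F) (hDE : D ≤ Subgroup.centralizer (E : Set G))
    (hEF : E ≤ Subgroup.centralizer (F : Set G)) :
    D ≤ Subgroup.centralizer (F : Set G) := by
  obtain ⟨g, hgE, hg⟩ := SetLike.not_le_iff_exists.1 hE.noncentral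
  exact hD.commute_of_le h hg hF
    ((le_centralizer_singleton_iff D g).2 (Subgroup.le_centralizer_iff.1 hDE hgE))
    ((le_centralizer_singleton_iff F g).2 (hEF hgE))

omit h [Finite G] in
theorem le_classSup {D : Subgroup G} (hD : Stable b D) : D ≤ classSup b D :=
  le_sSup ⟨hD, hD.comm⟩

theorem classSup_comm {D : Subgroup G} (hD : Stable b D) :
    classSup b D ≤ Subgroup.centralizer (classSup b D : Set G) := by
  refine sSup_le fun E hE => ?_
  rw [Subgroup.le_centralizer_iff]
  refine sSup_le fun F hF => ?_
  exact hF.1.commute_trans h hD hE.1 hF.2 (Subgroup.le_centralizer_iff.1 hE.2)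

omit h [Finite G] in
theorem classSup_noncentral {D : Subgroup G} (hD : Stable b D) :
    ¬ classSup b D ≤ Subgroup.center G :=
  fun h' => hD.noncentral (le_trans (le_classSup hD) h')

theorem classSup_eq {D E : Subgroup G} (hD : Stable b D) (hE : Stable b E)
    (hDE : D ≤ Subgroup.centralizer (E : Set G)) : classSup b D = classSup b E := by
  apply le_antisymm <;> refine sSup_le fun F hF => le_sSup ⟨hF.1, ?_⟩
  · exact hF.1.commute_trans h hD hE hF.2 hDE
  · exact hF.1.commute_trans h hE hD hF.2 (Subgroup.le_centralizer_iff.1 hDE)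

/-- The class of a non-central element is well defined. -/
theorem classSup_eq_of_le {g : G} (hg : g ∉ Subgroup.center G) {D E : Subgroup G}
    (hD : Stable b D) (hE : Stable b E) (hDg : D ≤ Subgroup.centralizer ({g} : Set G))
    (hEg : E ≤ Subgroup.centralizer ({g} : Set G)) : classSup b D = classSup b E :=
  classSup_eq h hD hE (hD.commute_of_le h hg hE hDg hEg)

/-- A large abelian subgroup contains a stable one. -/
theorem exists_stable_le (hb : 1 ≤ b) (D : Subgroup G) (hD : D ≤ Subgroup.centralizer (D : Set G))
    (hbig : b ^ d < (Subgroup.center G).relIndex D) : ∃ E : Subgroup G, Stable b E ∧ E ≤ D := by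
  obtain ⟨φ, hφd, hφ⟩ := h.chain
  suffices key : ∀ k : ℕ, ∀ D : Subgroup G, D ≤ Subgroup.centralizer (D : Set G) →
      b ^ k < (Subgroup.center G).relIndex D → d ≤ φ D + k →
      ∃ E : Subgroup G, Stable b E ∧ E ≤ D from key d D hD hbig (Nat.le_add_left _ _)
  intro k
  induction k using Nat.strong_induction_on with
  | _ k ih =>
    intro D hD hbig hk
    by_cases hs : Stable b D
    · exact ⟨D, hs, le_rfl⟩
    have hnc : ¬ D ≤ Subgroup.center G := by
      intro hle
      rw [Subgroup.relIndex_eq_one.2 hle] at hbig
      have := Nat.one_le_pow k b hb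
      omega
    obtain ⟨D', hle, hi, hne⟩ : ∃ D' ≤ D, D'.relIndex D ≤ b ∧
        Subgroup.centralizer (D' : Set G) ≠ Subgroup.centralizer (D : Set G) := by
      by_contra hno
      push Not at hno
      exact hs ⟨hD, hnc, hno⟩
    have hlt := hφ D' D hle hne
    obtain _ | k := k
    · have := hφd D'
      omega
    have hmul : (Subgroup.center G).relIndex D ≤ (Subgroup.center G).relIndex D' * D'.relIndex D := by
      rw [← Subgroup.inf_relIndex_right (Subgroup.center G) D',
        Subgroup.relIndex_mul_relIndex _ _ _ inf_le_right hle]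
      exact Nat.le_of_dvd (Nat.pos_of_ne_zero Subgroup.index_ne_zero_of_finite)
        (Subgroup.relIndex_dvd_of_le_left D inf_le_left)
    have hbig' : b ^ k < (Subgroup.center G).relIndex D' := by
      by_contra hno
      push Not at hno
      have := le_trans hmul (Nat.mul_le_mul hno hi)
      rw [← pow_succ] at this
      omega
    obtain ⟨E, hE, hED⟩ := ih k (Nat.lt_succ_self k) D'
      (le_trans hle (le_trans hD (Subgroup.centralizer_le hle))) hbig' (by omega)
    exact ⟨E, hE, le_trans hED hle⟩

end

end Cfsg.Agent.ModularJordan
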