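import Cfsg.Agent.Lib.ModularJordan.Classes
import Cfsg.Agent.Lib.ModularJordan.Arith

/-!
# Jordan's counting argument

A finite group satisfying `CountData` has central index bounded in terms of `b`, `n` and `d`.
-/

set_option autoImplicit false

namespace Cfsg.Agent.ModularJordan

section conj

variable {G : Type*} [Group G]

/-- Conjugation of subgroups. -/
abbrev conjSub (x : G) (M : Subgroup G) : Subgroup G := M.map (MulAut.conj x).toMonoidHom

theorem mem_conjSub {x : G} {M : Subgroup G} {y : G} : y ∈ conjSub x M ↔ x⁻¹ * y * x ∈ M := by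
  constructor
  · rintro ⟨m, hm, rfl⟩
    have : x⁻¹ * (x * m * x⁻¹) * x = m := by group
    simpa [this] using hm
  · intro h
    refine ⟨_, h, ?_⟩
    show x * (x⁻¹ * y * x) * x⁻¹ = y
    group

theorem conjSub_conjSub (x y : G) (M : Subgroup G) :
    conjSub x (conjSub y M) = conjSub (x * y) M := by
  ext z
  rw [mem_conjSub, mem_conjSub, mem_conjSub]
  have : (x * y)⁻¹ * z * (x * y) = y⁻¹ * (x⁻¹ * z * x) * y := by group
  rw [this]

theorem conjSub_one (M : Subgroup G) : conjSub 1 M = M := by
  ext z
  rw [mem_conjSub]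
  simp

theorem conjSub_mono {x : G} {M N : Subgroup G} (hMN : M ≤ N) : conjSub x M ≤ conjSub x N :=
  Subgroup.map_mono hMN

theorem conjSub_le_center_iff {x : G} {M : Subgroup G} :
    conjSub x M ≤ Subgroup.center G ↔ M ≤ Subgroup.center G := by
  constructor <;> intro h m hm
  · have hz := h (x := x * m * x⁻¹) (mem_conjSub.2 (by
      have : x⁻¹ * (x * m * x⁻¹) * x = m := by group
      rwa [this]))
    have := Subgroup.Normal.conj_mem inferInstance _ hz x⁻¹
    have e : x⁻¹ * (x * m * x⁻¹) * x⁻¹⁻¹ = m := by group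
    rwa [e] at this
  · have hz := h (mem_conjSub.1 hm)
    have := Subgroup.Normal.conj_mem inferInstance _ hz x
    have e : x * (x⁻¹ * m * x) * x⁻¹ = m := by group
    rwa [e] at this

theorem conjSub_centralizer (x : G) (M : Subgroup G) :
    conjSub x (Subgroup.centralizer (M : Set G)) = Subgroup.centralizer (conjSub x M : Set G) := by
  ext z
  rw [mem_conjSub, Subgroup.mem_centralizer_iff, Subgroup.mem_centralizer_iff]
  constructor
  · intro h y hy
    have := h _ (mem_conjSub.1 hy)
    calc y * z = x * ((x⁻¹ * y * x) * (x⁻¹ * z * x)) * x⁻¹ := by group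
      _ = x * ((x⁻¹ * z * x) * (x⁻¹ * y * x)) * x⁻¹ := by rw [this]
      _ = z * y := by group
  · intro h m hm
    have := h (x * m * x⁻¹) (mem_conjSub.2 (by
      have : x⁻¹ * (x * m * x⁻¹) * x = m := by group
      rwa [this]))
    calc m * (x⁻¹ * z * x) = x⁻¹ * ((x * m * x⁻¹) * z) * x := by group
      _ = x⁻¹ * (z * (x * m * x⁻¹)) * x := by rw [this]
      _ = x⁻¹ * z * x * m := by group

theorem Stable.conjSub {b : ℕ} {D : Subgroup G} (hD : Stable b D) (x : G) :
    Stable b (conjSub x D) := by
  refine ⟨?_, fun h => hD.noncentral (conjSub_le_center_iff.1 h), fun D' hle hi => ?_⟩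
  · rw [← conjSub_centralizer]
    exact conjSub_mono hD.comm
  · have h0 : Cfsg.Agent.ModularJordan.conjSub x (Cfsg.Agent.ModularJordan.conjSub x⁻¹ D') = D' := by
      rw [conjSub_conjSub, mul_inv_cancel, conjSub_one]
    have h1 : Cfsg.Agent.ModularJordan.conjSub x⁻¹ D' ≤ D := by
      have := conjSub_mono (x := x⁻¹) hle
      rwa [conjSub_conjSub, inv_mul_cancel, conjSub_one] at this
    rw [← h0, ← conjSub_centralizer, hD.eq_centralizer _ h1 ?_, conjSub_centralizer]
    rw [← h0] at hi
    have hinj : Function.Injective (MulAut.conj x).toMonoidHom := (MulAut.conj x).injective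
    rwa [Cfsg.Agent.ModularJordan.conjSub, Subgroup.relIndex_map_map_of_injective _ _ hinj] at hi

theorem classSup_conjSub (b : ℕ) (x : G) (D : Subgroup G) :
    classSup b (conjSub x D) = conjSub x (classSup b D) := by
  suffices key : ∀ (x : G) (D : Subgroup G),
      conjSub x (classSup b D) ≤ classSup b (conjSub x D) by
    refine le_antisymm ?_ (key x D)
    have := conjSub_mono (x := x) (key x⁻¹ (conjSub x D))
    rwa [conjSub_conjSub, conjSub_conjSub, mul_inv_cancel, inv_mul_cancel, conjSub_one,
      conjSub_one] at this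
  intro x D
  rw [conjSub, Subgroup.map_le_iff_le_comap]
  refine sSup_le fun E hE => ?_
  rw [← Subgroup.map_le_iff_le_comap]
  exact le_sSup ⟨hE.1.conjSub x, by rw [← conjSub_centralizer]; exact conjSub_mono hE.2⟩

theorem conjSub_eq_self_of_centralizes {D : Subgroup G} {g : G}
    (hDg : D ≤ Subgroup.centralizer ({g} : Set G)) : conjSub g D = D := by
  ext z
  rw [mem_conjSub]
  constructor
  · intro h
    have hc := Subgroup.mem_centralizer_singleton_iff.1 (hDg h)
    have : z = g⁻¹ * z * g := by
      calc z = g * (g⁻¹ * z * g) * g⁻¹ := by group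
        _ = g⁻¹ * z * g * g * g⁻¹ := by rw [← hc]
        _ = g⁻¹ * z * g := by group
    rwa [← this] at h
  · intro h
    have hc := Subgroup.mem_centralizer_singleton_iff.1 (hDg h)
    rw [mul_assoc, hc, ← mul_assoc, inv_mul_cancel, one_mul]
    exact h

theorem mem_normalizer_of_conjSub_eq {M : Subgroup G} {g : G} (h : conjSub g M = M) :
    g ∈ Subgroup.normalizer (M : Set G) := by
  rw [Subgroup.mem_normalizer_iff]
  intro m
  constructor
  · intro hm
    rw [← h]
    exact ⟨m, hm, rfl⟩
  · intro hm
    rw [← h] at hm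
    obtain ⟨m', hm', e⟩ := hm
    have : m' = m := (MulAut.conj g).injective e
    rwa [← this]

theorem conjSub_eq_iff {M : Subgroup G} {g : G} :
    conjSub g M = M ↔ g ∈ Subgroup.normalizer (M : Set G) := by
  refine ⟨mem_normalizer_of_conjSub_eq, fun h => ?_⟩
  ext z
  rw [mem_conjSub, Subgroup.mem_normalizer_iff.1 h (g⁻¹ * z * g)]
  have : g * (g⁻¹ * z * g) * g⁻¹ = z := by group
  rw [this]

end conj

section count

variable {G : Type*} [Group G] [Finite G] {b n d : ℕ}

/-- `g` is centralized by a stable subgroup. -/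
def Large (b : ℕ) (g : G) : Prop :=
  g ∉ Subgroup.center G ∧ ∃ D : Subgroup G, Stable b D ∧ D ≤ Subgroup.centralizer ({g} : Set G)

open scoped Classical in
/-- The abelian subgroup attached to a large element. -/
noncomputable def classOf (b : ℕ) (g : G) : Subgroup G :=
  if hg : Large b g then classSup b hg.2.choose else ⊥

theorem classOf_eq (h : CountData G b n d) {g : G} {D : Subgroup G} (hg : g ∉ Subgroup.center G)
    (hD : Stable b D) (hDg : D ≤ Subgroup.centralizer ({g} : Set G)) :
    classOf b g = classSup b D := by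
  classical
  have hl : Large b g := ⟨hg, D, hD, hDg⟩
  rw [classOf, dif_pos hl]
  exact classSup_eq_of_le h hg hl.2.choose_spec.1 hD hl.2.choose_spec.2 hDg

omit [Finite G] in
theorem center_conj {g x : G} : x * g * x⁻¹ ∈ Subgroup.center G ↔ g ∈ Subgroup.center G := by
  constructor
  · intro h
    have := Subgroup.Normal.conj_mem inferInstance _ h x⁻¹
    have e : x⁻¹ * (x * g * x⁻¹) * x⁻¹⁻¹ = g := by group
    rwa [e] at this
  · intro h
    exact Subgroup.Normal.conj_mem inferInstance _ h x

theorem classOf_conj (h : CountData G b n d) {g : G} (hg : Large b g) (x : G) :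
    Large b (x * g * x⁻¹) ∧ classOf b (x * g * x⁻¹) = conjSub x (classOf b g) := by
  obtain ⟨hgc, D, hD, hDg⟩ := hg
  have hD' := hD.conjSub x
  have hDg' : conjSub x D ≤ Subgroup.centralizer ({x * g * x⁻¹} : Set G) := by
    rintro y ⟨m, hm, rfl⟩
    rw [Subgroup.mem_centralizer_singleton_iff]
    have hc := Subgroup.mem_centralizer_singleton_iff.1 (hDg hm)
    show x * m * x⁻¹ * (x * g * x⁻¹) = x * g * x⁻¹ * (x * m * x⁻¹)
    calc x * m * x⁻¹ * (x * g * x⁻¹) = x * (m * g) * x⁻¹ := by group
      _ = x * (g * m) * x⁻¹ := by rw [hc]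
      _ = x * g * x⁻¹ * (x * m * x⁻¹) := by group
  have hgc' : x * g * x⁻¹ ∉ Subgroup.center G := fun hh => hgc (center_conj.1 hh)
  refine ⟨⟨hgc', _, hD', hDg'⟩, ?_⟩
  rw [classOf_eq h hgc' hD' hDg', classOf_eq h hgc hD hDg, classSup_conjSub]

/-- Double counting along conjugation. -/
theorem card_mul_eq_of_fibres {X : Type*} (f : X → G) (F : Finset G) (S : Finset X) (c : ℕ)
    (hmaps : ∀ p ∈ S, f p ∈ F)
    (hfib : ∀ y ∈ F, Nat.card {p : X // p ∈ S ∧ f p = y} = c) :
    S.card = F.card * c := by
  classical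
  rw [Finset.card_eq_sum_card_fiberwise hmaps, Finset.sum_const_nat]
  intro y hy
  rw [← hfib y hy]
  exact (Nat.subtype_card _ (by intro p; simp)).symm

end count

end Cfsg.Agent.ModularJordan
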