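import Cfsg.Agent.Lib.ModularJordan.Reducible
import Cfsg.Agent.Lib.ModularJordan.CenterIndex

/-!
# Jordan's theorem in positive characteristic (Brauer-Feit)

A finite subgroup of `GL(n, K)`, `K` of characteristic `p`, whose Sylow `p`-subgroups have order
at most `p ^ m`, has a normal abelian subgroup of index bounded by a function of `m` and `n`.
-/

set_option autoImplicit false

universe u v

namespace Cfsg.Agent.ModularJordan

variable {G : Type u} [Group G] [Finite G] {K : Type v} [Field K] [IsAlgClosed K]
variable {V : Type v} [AddCommGroup V] [Module K V] [FiniteDimensional K V]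
variable (p : ℕ) [Fact p.Prime] [CharP K p]

omit [Finite G] [Fact p.Prime] [CharP K p] in
/-- A commuting family has a common eigenvector. -/
theorem exists_common_eigenvector [Nontrivial V] (A : Subgroup G)
    (hA : A ≤ Subgroup.centralizer (A : Set G)) (ρ : G →* Module.End K V) :
    ∃ (χ : A → K) (v : V), v ≠ 0 ∧ ∀ a : A, ρ a v = χ a • v := by
  classical
  suffices key : ∀ k, ∀ W : Submodule K V, Module.finrank K W = k → W ≠ ⊥ →
      (∀ a : A, ∀ w ∈ W, ρ a w ∈ W) → ∃ (χ : A → K) (v : V), v ≠ 0 ∧ ∀ a : A, ρ a v = χ a • v from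
    key _ ⊤ rfl top_ne_bot fun _ _ _ => Submodule.mem_top
  intro k
  induction k using Nat.strong_induction_on with
  | _ k ih =>
    intro W hk hW hinv
    by_cases hall : ∀ a : A, ∃ c : K, ∀ w ∈ W, ρ a w = c • w
    · choose c hc using hall
      obtain ⟨v, hv, hv0⟩ := Submodule.exists_mem_ne_zero_of_ne_bot hW
      exact ⟨c, v, hv0, fun a => hc a v hv⟩
    · obtain ⟨a, ha⟩ := not_forall.1 hall
      have : Nontrivial W := Submodule.nontrivial_iff_ne_bot.2 hW
      obtain ⟨c, hc⟩ := Module.End.exists_eigenvalue ((ρ a).restrict (hinv a))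
      obtain ⟨w, hw⟩ := hc.exists_hasEigenvector
      set W' : Submodule K V := W ⊓ Module.End.eigenspace (ρ a) c with hW'
      have hlt : W' < W := by
        refine lt_of_le_of_ne inf_le_left fun he => ha ⟨c, fun x hx => ?_⟩
        rw [← he] at hx
        exact Module.End.mem_eigenspace_iff.1 hx.2
      have hne : W' ≠ ⊥ := by
        intro he
        have h1 : (w : V) ∈ W' := by
          refine ⟨w.2, Module.End.mem_eigenspace_iff.2 ?_⟩
          simpa [LinearMap.restrict_apply] using congrArg Subtype.val hw.apply_eq_smul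
        rw [he, Submodule.mem_bot] at h1
        exact hw.2 (Subtype.ext h1)
      refine ih _ (hk ▸ Submodule.finrank_lt_finrank_of_lt hlt) W' rfl hne fun b x hx => ?_
      refine ⟨hinv b x hx.1, Module.End.mem_eigenspace_iff.2 ?_⟩
      rw [← Module.End.mul_apply, ← map_mul, Subgroup.mem_centralizer_iff.1 (hA b.2) _ a.2,
        map_mul, Module.End.mul_apply, Module.End.mem_eigenspace_iff.1 hx.2, map_smul]

set_option maxHeartbeats 800000 in
/-- A linear group with a non-scalar abelian normal subgroup. -/
theorem abBound_of_normal {m n b : ℕ} (hsmall : SmallBound.{u, v} K p m n b)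
    (ρ : G →* Module.End K V) (hρ : Function.Injective ρ) (hn : Module.finrank K V ≤ n)
    (hm : (Nat.card G).factorization p ≤ m) (A : Subgroup G) [A.Normal]
    (hA : A ≤ Subgroup.centralizer (A : Set G)) (hns : ∃ a ∈ A, ∀ c : K, ρ a ≠ c • 1) :
    AbBound G (n * (b * b * (p ^ m).factorial * p ^ m)) := by
  classical
  have : Nontrivial V := by
    obtain ⟨a, -, ha⟩ := hns
    rw [← not_subsingleton_iff_nontrivial]
    intro hs
    exact ha 0 (LinearMap.ext fun x => Subsingleton.elim _ _)
  obtain ⟨χ, v, hv, hχ⟩ := exists_common_eigenvector A hA ρ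
  let Wt : (A → K) → Submodule K V := fun ψ => ⨅ a : A, Module.End.eigenspace (ρ a) (ψ a)
  let tw : G → A → A := fun g a => ⟨g⁻¹ * a * g, by
    simpa using Subgroup.Normal.conj_mem inferInstance _ a.2 g⁻¹⟩
  have hmove : ∀ (g : G) (ψ : A → K), ∀ x ∈ Wt ψ, ρ g x ∈ Wt (ψ ∘ tw g) := by
    intro g ψ x hx
    simp only [Wt, Submodule.mem_iInf, Module.End.mem_eigenspace_iff] at hx ⊢
    intro a
    have h1 := hx (tw g a)
    rw [← Module.End.mul_apply, ← map_mul,
      show (a : G) * g = g * ((tw g a : A) : G) by simp [tw, mul_assoc],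
      map_mul, Module.End.mul_apply, h1, map_smul]
    rfl
  let H : Subgroup G :=
    { carrier := {g | χ ∘ tw g = χ}
      one_mem' := by funext a; simp [tw]
      mul_mem' := by
        intro g h hg hh
        funext a
        have e : tw (g * h) a = tw h (tw g a) := by ext; simp [tw, mul_assoc]
        show χ (tw (g * h) a) = χ a
        rw [e]
        exact (congrFun hh _).trans (congrFun hg a)
      inv_mem' := by
        intro g hg
        funext a
        have e : tw g (tw g⁻¹ a) = a := by ext; simp [tw, mul_assoc]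
        show χ (tw g⁻¹ a) = χ a
        conv_rhs => rw [← e]
        exact (congrFun hg _).symm }
  have hvW : v ∈ Wt χ := by
    simp only [Wt, Submodule.mem_iInf, Module.End.mem_eigenspace_iff]
    exact hχ
  -- the index of the stabiliser
  have hidx : H.index ≤ n := by
    have hind : iSupIndep fun ψ : A → K => ⨅ a : A, Module.End.maxGenEigenspace (ρ a) (ψ a) :=
      Module.End.independent_iInf_maxGenEigenspace_of_forall_mapsTo (fun a : A => ρ a)
        fun i j φ => Module.End.mapsTo_maxGenEigenspace_of_comm (by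
          rw [Commute, SemiconjBy, ← map_mul, ← map_mul,
            Subgroup.mem_centralizer_iff.1 (hA i.2) _ j.2]) φ
    have hinj : Function.Injective fun q : G ⧸ H => χ ∘ tw q.out := by
      intro q r hqr
      rw [← QuotientGroup.out_eq' q, ← QuotientGroup.out_eq' r, QuotientGroup.eq]
      funext a
      have h1 := congrFun hqr (tw q.out⁻¹ a)
      simp only [Function.comp_apply] at h1
      have e1 : tw q.out (tw q.out⁻¹ a) = a := by ext; simp [tw, mul_assoc]
      have e2 : tw r.out (tw q.out⁻¹ a) = tw (q.out⁻¹ * r.out) a := by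
        ext; simp [tw, mul_assoc]
      rw [e1, e2] at h1
      exact h1.symm
    have hind' := hind.comp hinj
    have hle : ∀ ψ : A → K, Wt ψ ≤ ⨅ a : A, Module.End.maxGenEigenspace (ρ a) (ψ a) := fun ψ =>
      iInf_mono fun a => Module.End.eigenspace_le_maxGenEigenspace
    have hli := hind'.linearIndependent _ (v := fun q : G ⧸ H => ρ q.out v)
      (fun q => hle _ (hmove _ _ v hvW)) (fun q h0 => hv (by
        have : ρ (q.out⁻¹ * q.out) v = 0 := by
          rw [map_mul, Module.End.mul_apply, h0, map_zero]
        simpa using this))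
    have := Fintype.ofFinite (G ⧸ H)
    have := hli.fintype_card_le_finrank
    rw [Subgroup.index, Nat.card_eq_fintype_card]
    omega
  -- the stabiliser is reducible
  have htop : Wt χ ≠ ⊤ := by
    intro he
    obtain ⟨a, ha, hna⟩ := hns
    refine hna (χ ⟨a, ha⟩) (LinearMap.ext fun x => ?_)
    have hx : x ∈ Wt χ := he ▸ Submodule.mem_top
    simp only [Wt, Submodule.mem_iInf, Module.End.mem_eigenspace_iff] at hx
    simpa using hx ⟨a, ha⟩
  have hbot : Wt χ ≠ ⊥ := fun he => hv (by simpa [he] using hvW)
  obtain ⟨B, hBH, hBc, hBi⟩ := (abBound_of_invariant p hsmall (ρ.comp H.subtype)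
    (hρ.comp H.subtype_injective) hn
    (le_trans (factorization_le_of_dvd Nat.card_pos.ne' (Subgroup.card_subgroup_dvd_card H)) hm)
    (Wt χ) (fun g w hw => by
      have := hmove (g : G) χ w hw
      rwa [g.2] at this) hbot htop).to_relIndex
  refine ⟨B, hBc, ?_⟩
  rw [← Subgroup.relIndex_mul_index hBH, mul_comm]
  exact Nat.mul_le_mul hidx hBi

set_option maxHeartbeats 800000 in
/-- Groups without non-scalar abelian normal subgroups satisfy `CountData`. -/
theorem countData_of_linear {m n b : ℕ} (hsmall : SmallBound.{u, v} K p m n b)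
    (ρ : G →* Module.End K V) (hρ : Function.Injective ρ) (hn : Module.finrank K V = n)
    (hm : (Nat.card G).factorization p ≤ m)
    (hscal : ∀ M : Subgroup G, M.Normal → M ≤ Subgroup.centralizer (M : Set G) →
      ∀ g ∈ M, ∃ c : K, ρ g = c • 1) :
    CountData G ((n + 1) * (b * b * (p ^ m).factorial * p ^ m)) n (n * n) := by
  classical
  have hmem : ∀ g : G, (∃ c : K, ρ g = c • 1) → g ∈ Subgroup.center G := by
    rintro g ⟨c, hc⟩
    rw [Subgroup.mem_center_iff]
    intro x
    apply hρ
    rw [map_mul, map_mul, hc, smul_one_mul, mul_smul_comm, mul_one]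
  have hcomm : Subgroup.center G ≤ Subgroup.centralizer (Subgroup.center G : Set G) :=
    center_le_centralizer _
  have hZ : ∀ z ∈ Subgroup.center G, ∃ c : K, ρ z = c • 1 := hscal _ inferInstance hcomm
  refine ⟨fun g hg => ?_, fun M hM hMn => ?_, fun M hMn hMc g hg => hmem g (hscal M hMn hMc g hg),
    ?_, fun g hg => ?_⟩
  · have : Nontrivial V := by
      rw [← not_subsingleton_iff_nontrivial]
      intro hs
      exact hg (hmem g ⟨0, LinearMap.ext fun x => Subsingleton.elim _ _⟩)
    obtain ⟨c, hc⟩ := Module.End.exists_eigenvalue (ρ g)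
    obtain ⟨A, hAC, hAc, hAi⟩ := (abBound_of_invariant p hsmall
      (ρ.comp (Subgroup.centralizer ({g} : Set G)).subtype)
      (hρ.comp (Subgroup.subtype_injective _)) hn.le
      (le_trans (factorization_le_of_dvd Nat.card_pos.ne' (Subgroup.card_subgroup_dvd_card _)) hm)
      (Module.End.eigenspace (ρ g) c) (fun x w hw => by
        rw [Module.End.mem_eigenspace_iff] at hw ⊢
        show ρ g (ρ (x : G) w) = c • ρ (x : G) w
        rw [← Module.End.mul_apply, ← map_mul,
          ← Subgroup.mem_centralizer_singleton_iff.1 x.2, map_mul, Module.End.mul_apply, hw,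
          map_smul]) hc (fun he => hg (hmem g ⟨c, LinearMap.ext fun x => by
        have hx : x ∈ Module.End.eigenspace (ρ g) c := he ▸ Submodule.mem_top
        simpa using Module.End.mem_eigenspace_iff.1 hx⟩))).to_relIndex
    exact ⟨A, hAC, hAc, le_trans hAi (Nat.le_mul_of_pos_left _ (Nat.succ_pos _))⟩
  · set N := Subgroup.normalizer (M : Set G) with hN
    have hMN : M ≤ N := Subgroup.le_normalizer
    have : (M.subgroupOf N).Normal := Subgroup.normal_in_normalizer
    obtain ⟨g, hgM, hg⟩ := SetLike.not_le_iff_exists.1 hMn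
    obtain ⟨A, hAN, hAc, hAi⟩ := (abBound_of_normal p hsmall (ρ.comp N.subtype)
      (hρ.comp N.subtype_injective) hn.le
      (le_trans (factorization_le_of_dvd Nat.card_pos.ne' (Subgroup.card_subgroup_dvd_card _)) hm)
      (M.subgroupOf N) (fun x hx => by
        rw [Subgroup.mem_centralizer_iff]
        intro y hy
        exact Subtype.ext (Subgroup.mem_centralizer_iff.1 (hM hx) _ hy))
      ⟨⟨g, hMN hgM⟩, hgM, fun c hc => hg (hmem g ⟨c, hc⟩)⟩).to_relIndex
    exact ⟨A, hAN, hAc, le_trans hAi (Nat.mul_le_mul_right _ (Nat.le_succ _))⟩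
  · refine ⟨fun X => Module.finrank K
      (Subalgebra.toSubmodule (Subalgebra.centralizer K (ρ '' (X : Set G)))), fun X => ?_,
      fun X' X hle hne => ?_⟩
    · refine le_trans (Submodule.finrank_le _) ?_
      rw [Module.finrank_linearMap, hn]
    · refine Submodule.finrank_lt_finrank_of_lt (lt_of_le_not_ge ?_ fun hge => hne ?_)
      · exact Subalgebra.centralizer_le K _ _ (Set.image_mono hle)
      · refine le_antisymm (fun g hg => ?_) (Subgroup.centralizer_le hle)
        have h1 : ρ g ∈ Subalgebra.centralizer K (ρ '' (X' : Set G)) := by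
          rw [Subalgebra.mem_centralizer_iff]
          rintro f ⟨x, hx, rfl⟩
          rw [← map_mul, ← map_mul, Subgroup.mem_centralizer_iff.1 hg x hx]
        have h2 : ρ g ∈ Subalgebra.centralizer K (ρ '' (X : Set G)) := hge h1
        rw [Subgroup.mem_centralizer_iff]
        intro x hx
        apply hρ
        rw [map_mul, map_mul]
        exact Subalgebra.mem_centralizer_iff K |>.1 h2 _ ⟨x, hx, rfl⟩
  · rcases Nat.eq_zero_or_pos n with h0 | h0
    · subst h0
      exfalso
      have : Subsingleton V := Module.finrank_zero_iff.1 hn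
      exact hg (hmem g ⟨0, LinearMap.ext fun x => Subsingleton.elim _ _⟩)
    have hc := fun z : {z : G // z ∈ Subgroup.center G ∧ IsConj g (g * z)} => hZ z.1 z.2.1
    choose c hc using hc
    have hmem' : ∀ z, c z ∈ Polynomial.nthRootsFinset n (1 : K) := by
      intro z
      rw [Polynomial.mem_nthRootsFinset h0]
      obtain ⟨x, hx⟩ := isConj_iff.1 z.2.2
      have h1 : LinearMap.det (ρ (x * g * x⁻¹)) = LinearMap.det (ρ g) := by
        have hxx : LinearMap.det (ρ x) * LinearMap.det (ρ x⁻¹) = 1 := by
          rw [← map_mul, ← map_mul, mul_inv_cancel, map_one, map_one]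
        simp only [map_mul]
        linear_combination (LinearMap.det (ρ g)) * hxx
      have h2 : LinearMap.det (ρ g) ≠ 0 := by
        intro h
        have : LinearMap.det (ρ g) * LinearMap.det (ρ g⁻¹) = 1 := by
          rw [← map_mul, ← map_mul, mul_inv_cancel, map_one, map_one]
        rw [h, zero_mul] at this
        exact zero_ne_one this
      rw [hx, map_mul, map_mul, hc z, LinearMap.det_smul, hn, map_one, mul_one] at h1
      exact (mul_eq_left₀ h2).1 h1
    refine le_trans (Nat.card_le_card_of_injective (fun z => (⟨c z, hmem' z⟩ :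
      {x // x ∈ Polynomial.nthRootsFinset n (1 : K)})) ?_) ?_
    · intro z w hzw
      have e : c z = c w := congrArg Subtype.val hzw
      exact Subtype.ext (hρ (by rw [hc z, hc w, e]))
    · rw [Nat.card_eq_fintype_card, Fintype.card_coe, Polynomial.nthRootsFinset_def]
      exact le_trans (Multiset.toFinset_card_le _) (Polynomial.card_nthRoots n 1)

omit K [Field K] [IsAlgClosed K] [CharP K p] in
/-- Jordan's theorem in characteristic `p`, algebraically closed field. -/
theorem exists_smallBound (m : ℕ) : ∀ n : ℕ, ∃ b, ∀ (K : Type v) [Field K] [IsAlgClosed K]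
    [CharP K p], SmallBound.{u, v} K p m n b := by
  intro n
  induction n with
  | zero => exact ⟨0, fun K _ _ _ G _ _ V _ _ _ ρ _ hn => absurd hn (Nat.not_lt_zero _)⟩
  | succ n ih =>
    obtain ⟨b, hb⟩ := ih
    set r := b * b * (p ^ m).factorial * p ^ m
    obtain ⟨B, hB⟩ := exists_center_index_bound.{u} ((n + 1) * r) n (n * n)
    refine ⟨b + n * r + B, fun K _ _ _ G _ _ V _ _ _ ρ hρ hn hm => ?_⟩
    rcases Nat.lt_or_eq_of_le (Nat.lt_succ_iff.1 hn) with hlt | heq
    · exact (hb K G V ρ hρ hlt hm).mono (by omega)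
    by_cases hscal : ∀ M : Subgroup G, M.Normal → M ≤ Subgroup.centralizer (M : Set G) →
        ∀ g ∈ M, ∃ c : K, ρ g = c • 1
    · exact ⟨Subgroup.center G, center_le_centralizer _,
        le_trans (hB G (countData_of_linear p (hb K) ρ hρ heq hm hscal)) (Nat.le_add_left _ _)⟩
    · simp only [not_forall, not_exists] at hscal
      obtain ⟨M, hMn, hMc, g, hg, hgc⟩ := hscal
      exact (abBound_of_normal p (hb K) ρ hρ heq.le hm M hMc ⟨g, hg, hgc⟩).mono
        ((Nat.le_add_left _ b).trans (Nat.le_add_right _ B))

omit [Finite G] [Fact p.Prime] [CharP K p] [IsAlgClosed K] in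
/-- An abelian subgroup of bounded index yields a normal one. -/
theorem AbBound.exists_normal [Finite G] {b : ℕ} (h : AbBound G b) :
    ∃ A : Subgroup G, A.Normal ∧ IsMulCommutative A ∧ A.index ≤ b.factorial := by
  obtain ⟨A, hA, hi⟩ := h
  refine ⟨A.normalCore, inferInstance, ⟨⟨fun x y => Subtype.ext ?_⟩⟩, ?_⟩
  · exact Subgroup.mem_centralizer_iff.1 (hA (Subgroup.normalCore_le A y.2)) _
      (Subgroup.normalCore_le A x.2)
  · rw [Subgroup.normalCore_eq_ker, Subgroup.index_ker]
    refine le_trans (Subgroup.card_le_card_group _) ?_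
    rw [Nat.card_perm]
    exact Nat.factorial_le hi

end Cfsg.Agent.ModularJordan
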