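import Mathlib

/-!
# Linear groups with an invariant subspace, or with a non-scalar abelian normal subgroup
-/

set_option autoImplicit false

universe u v w

namespace Cfsg.Agent.ModularJordan

/-- `G` has an abelian subgroup of index at most `b`. -/
def AbBound (G : Type u) [Group G] (b : ℕ) : Prop :=
  ∃ A : Subgroup G, A ≤ Subgroup.centralizer (A : Set G) ∧ A.index ≤ b

/-- Every linear group of degree `< n` in characteristic `p` with `p`-part at most `p ^ m` has an
abelian subgroup of index at most `b`. -/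
def SmallBound (K : Type v) [Field K] (p m n b : ℕ) : Prop :=
  ∀ (G : Type u) [Group G] [Finite G] (V : Type v) [AddCommGroup V] [Module K V]
    [FiniteDimensional K V] (ρ : G →* Module.End K V), Function.Injective ρ →
    Module.finrank K V < n → (Nat.card G).factorization p ≤ m → AbBound G b

variable {G : Type u} [Group G]

theorem AbBound.mono {b c : ℕ} (h : AbBound G b) (hbc : b ≤ c) : AbBound G c :=
  let ⟨A, hA, hi⟩ := h
  ⟨A, hA, le_trans hi hbc⟩

theorem AbBound.to_relIndex {H : Subgroup G} {b : ℕ} (h : AbBound H b) :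
    ∃ A : Subgroup G, A ≤ H ∧ A ≤ Subgroup.centralizer (A : Set G) ∧ A.relIndex H ≤ b := by
  obtain ⟨A, hA, hi⟩ := h
  refine ⟨A.map H.subtype, Subgroup.map_subtype_le A, ?_, ?_⟩
  · rintro x ⟨a, ha, rfl⟩
    rw [Subgroup.mem_centralizer_iff]
    rintro y ⟨a', ha', rfl⟩
    exact congrArg H.subtype (Subgroup.mem_centralizer_iff.1 (hA ha) a' ha')
  · rwa [Subgroup.relIndex, Subgroup.subgroupOf, Subgroup.comap_map_eq_self_of_injective
      H.subtype_injective]

theorem factorization_le_of_dvd {p a b : ℕ} (hb : b ≠ 0) (h : a ∣ b) :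
    a.factorization p ≤ b.factorization p :=
  (Nat.factorization_le_iff_dvd (ne_zero_of_dvd_ne_zero hb h) hb).2 h p

variable {K : Type v} [Field K] {V : Type v} [AddCommGroup V] [Module K V]

/-- Restriction to an invariant subspace. -/
noncomputable def resHom (ρ : G →* Module.End K V) (W : Submodule K V)
    (hW : ∀ g, ∀ w ∈ W, ρ g w ∈ W) : G →* Module.End K W where
  toFun g := (ρ g).restrict (hW g)
  map_one' := by ext w; simp [LinearMap.restrict_apply]
  map_mul' g h := by ext w; simp [LinearMap.restrict_apply]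

/-- The action on the quotient by an invariant subspace. -/
noncomputable def quotHom (ρ : G →* Module.End K V) (W : Submodule K V)
    (hW : ∀ g, ∀ w ∈ W, ρ g w ∈ W) : G →* Module.End K (V ⧸ W) where
  toFun g := W.mapQ W (ρ g) (fun w hw => hW g w hw)
  map_one' := by
    refine Submodule.linearMap_qext _ ?_
    ext x
    simp
  map_mul' g h := by
    refine Submodule.linearMap_qext _ ?_
    ext x
    simp

variable [Finite G] [FiniteDimensional K V] (p : ℕ) [hp : Fact p.Prime] [CharP K p]

set_option maxHeartbeats 400000 in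
/-- A linear group with a proper invariant subspace. -/
theorem abBound_of_invariant {m n b : ℕ} (hsmall : SmallBound.{u, v} K p m n b)
    (ρ : G →* Module.End K V) (hρ : Function.Injective ρ) (hn : Module.finrank K V ≤ n)
    (hm : (Nat.card G).factorization p ≤ m) (W : Submodule K V)
    (hW : ∀ g, ∀ w ∈ W, ρ g w ∈ W) (hbot : W ≠ ⊥) (htop : W ≠ ⊤) :
    AbBound G (b * b * (p ^ m).factorial * p ^ m) := by
  classical
  have hcard : Nat.card G ≠ 0 := Nat.card_pos.ne'
  have hdim : Module.finrank K W < n ∧ Module.finrank K (V ⧸ W) < n := by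
    have h1 := Submodule.finrank_lt htop
    have h2 := W.finrank_quotient_add_finrank
    have h3 : 0 < Module.finrank K W := by
      rw [pos_iff_ne_zero]
      exact fun h => hbot (Submodule.finrank_eq_zero.1 h)
    omega
  have key : ∀ (U : Type v) [AddCommGroup U] [Module K U] [FiniteDimensional K U]
      (φ : G →* Module.End K U), Module.finrank K U < n →
      ∃ A : Subgroup G, A.index ≤ b ∧ ∀ x ∈ A, ∀ y ∈ A, x⁻¹ * (y * x * y⁻¹) ∈ φ.ker := by
    intro U _ _ _ φ hU
    let ψ : (G ⧸ φ.ker) →* Module.End K U := QuotientGroup.lift φ.ker φ le_rfl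
    have hinj : Function.Injective ψ := by
      intro a c hac
      obtain ⟨a, rfl⟩ := QuotientGroup.mk_surjective a
      obtain ⟨c, rfl⟩ := QuotientGroup.mk_surjective c
      have hac' : φ a = φ c := hac
      rw [QuotientGroup.eq, MonoidHom.mem_ker, map_mul, ← hac', ← map_mul, inv_mul_cancel, map_one]
    obtain ⟨A, hA, hi⟩ := hsmall (G ⧸ φ.ker) U ψ hinj hU
      (le_trans (factorization_le_of_dvd hcard (Subgroup.card_quotient_dvd_card _)) hm)
    refine ⟨A.comap (QuotientGroup.mk' _), ?_, fun x hx y hy => ?_⟩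
    · rwa [Subgroup.index_comap_of_surjective _ (QuotientGroup.mk'_surjective _)]
    · rw [← QuotientGroup.eq, QuotientGroup.mk_mul, QuotientGroup.mk_mul, QuotientGroup.mk_inv]
      have := Subgroup.mem_centralizer_iff.1 (hA hx) _ hy
      simp only [QuotientGroup.mk'_apply] at this
      rw [this, mul_inv_cancel_right]
  obtain ⟨A1, hA1, hc1⟩ := key W (resHom ρ W hW) hdim.1
  obtain ⟨A2, hA2, hc2⟩ := key (V ⧸ W) (quotHom ρ W hW) hdim.2
  set R : Subgroup G := (resHom ρ W hW).ker ⊓ (quotHom ρ W hW).ker with hR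
  have hRn : R.Normal := Subgroup.normal_inf_normal _ _
  have hR1 : ∀ r ∈ R, ∀ w ∈ W, ρ r w = w := by
    intro r hr w hw
    have := LinearMap.congr_fun (MonoidHom.mem_ker.1 hr.1) ⟨w, hw⟩
    simpa [resHom, LinearMap.restrict_apply] using congrArg Subtype.val this
  have hR2 : ∀ r ∈ R, ∀ v, ρ r v - v ∈ W := by
    intro r hr v
    have := LinearMap.congr_fun (MonoidHom.mem_ker.1 hr.2) (Submodule.Quotient.mk v)
    simp [quotHom] at this
    exact (Submodule.Quotient.eq W).1 this
  have hmul : ∀ r ∈ R, ∀ s ∈ R, ∀ v, ρ (r * s) v = ρ r v + (ρ s v - v) := by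
    intro r hr s hs v
    rw [map_mul, Module.End.mul_apply]
    conv_lhs => rw [show ρ s v = v + (ρ s v - v) by abel]
    rw [map_add, hR1 r hr _ (hR2 s hs v)]
  have hRc : ∀ r ∈ R, ∀ s ∈ R, r * s = s * r := by
    intro r hr s hs
    apply hρ
    ext v
    rw [hmul r hr s hs, hmul s hs r hr]
    abel
  have hRp : ∀ r ∈ R, r ^ p = 1 := by
    intro r hr
    have hpow : ∀ k : ℕ, ∀ v, ρ (r ^ k) v = v + k • (ρ r v - v) := by
      intro k
      induction k with
      | zero => intro v; simp
      | succ k ih =>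
        intro v
        rw [pow_succ, hmul _ (pow_mem hr k) r hr, ih, succ_nsmul]
        abel
    apply hρ
    ext v
    rw [hpow, ← Nat.cast_smul_eq_nsmul K, CharP.cast_eq_zero, zero_smul, add_zero, map_one,
      Module.End.one_apply]
  have hpm : ∀ k, p ^ k ∣ Nat.card G → p ^ k ≤ p ^ m := fun k hk =>
    Nat.pow_le_pow_right hp.out.pos
      (le_trans ((hp.out.pow_dvd_iff_le_factorization hcard).1 hk) hm)
  have hRcard : Nat.card R ≤ p ^ m := by
    have hP : IsPGroup p R := fun r => ⟨1, by
      ext
      simpa using hRp r r.2⟩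
    obtain ⟨k, hk⟩ := IsPGroup.iff_card.1 hP
    rw [hk]
    exact hpm k (hk ▸ Subgroup.card_subgroup_dvd_card R)
  set C := A1 ⊓ A2 ⊓ Subgroup.centralizer (R : Set G) with hC
  have hCR : (Subgroup.centralizer (R : Set G)).index ≤ (p ^ m).factorial := by
    have hker : (MulAut.conjNormal (H := R)).ker ≤ Subgroup.centralizer (R : Set G) := by
      intro g hg
      rw [Subgroup.mem_centralizer_iff]
      intro r hr
      have := congrArg Subtype.val (MulEquiv.congr_fun (MonoidHom.mem_ker.1 hg) ⟨r, hr⟩)
      simp at this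
      calc r * g = g * r * g⁻¹ * g := by rw [this]
        _ = g * r := by group
    refine le_trans (Nat.le_of_dvd (Nat.pos_of_ne_zero Subgroup.index_ne_zero_of_finite)
      (Subgroup.index_dvd_of_le hker)) ?_
    rw [Subgroup.index_ker]
    refine le_trans (Subgroup.card_le_card_group _) ?_
    refine le_trans (Nat.card_le_card_of_injective (fun e : MulAut R => e.toEquiv)
      MulEquiv.toEquiv_injective) ?_
    rw [Nat.card_perm]
    exact Nat.factorial_le hRcard
  have hCi : C.index ≤ b * b * (p ^ m).factorial :=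
    le_trans (Subgroup.index_inf_le) (Nat.mul_le_mul
      (le_trans Subgroup.index_inf_le (Nat.mul_le_mul hA1 hA2)) hCR)
  -- `p`-th powers of elements of `C` are central in `C`
  have hZ : ∀ x : C, x ^ p ∈ Subgroup.center C := by
    intro x
    rw [Subgroup.mem_center_iff]
    intro y
    set r := (x : G)⁻¹ * ((y : G) * x * (y : G)⁻¹) with hr
    have hrR : r ∈ R :=
      ⟨hc1 _ x.2.1.1 _ y.2.1.1, hc2 _ x.2.1.2 _ y.2.1.2⟩
    have hxr : Commute (x : G) r := ((Subgroup.mem_centralizer_iff.1 x.2.2) r hrR).symm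
    have : ((y : G) * x * (y : G)⁻¹) ^ p = (x : G) ^ p := by
      rw [show (y : G) * x * (y : G)⁻¹ = x * r by rw [hr, mul_inv_cancel_left], hxr.mul_pow,
        hRp r hrR, mul_one]
    rw [conj_pow] at this
    ext
    simp only [Subgroup.coe_mul, SubmonoidClass.coe_pow]
    conv_rhs => rw [← this, inv_mul_cancel_right]
  have hP : IsPGroup p (C ⧸ Subgroup.center C) := by
    intro q
    obtain ⟨x, rfl⟩ := QuotientGroup.mk_surjective q
    exact ⟨1, by rw [pow_one, ← QuotientGroup.mk_pow, QuotientGroup.eq_one_iff]; exact hZ x⟩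
  obtain ⟨k, hk⟩ := IsPGroup.iff_card.1 hP
  refine ⟨(Subgroup.center C).map C.subtype, ?_, ?_⟩
  · rintro x ⟨a, ha, rfl⟩
    rw [Subgroup.mem_centralizer_iff]
    rintro y ⟨a', -, rfl⟩
    exact congrArg C.subtype (Subgroup.mem_center_iff.1 ha a')
  · rw [Subgroup.index_map_subtype, mul_comm]
    refine Nat.mul_le_mul hCi ?_
    rw [Subgroup.index, hk]
    exact hpm k (hk ▸ dvd_trans (Subgroup.card_quotient_dvd_card _)
      (Subgroup.card_subgroup_dvd_card C))

end Cfsg.Agent.ModularJordan
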